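import Cfsg.Agent.SchurBound.Basic
import Cfsg.Agent.Schur.Basic
import Cfsg.Agent.Suzuki.Centralizers

/-!
# The Schur multiplier of `Sz(q)` is trivial for `q ≥ 32`
-/

set_option autoImplicit false
set_option linter.style.haveILetI false

namespace CfsgLib.SchurBound

open CfsgLib.Suzuki Polynomial
open scoped commutatorElement

variable {F : Type*} [Field F] [Fintype F] {m : ℕ}

theorem sz_card_ge (hS : SzField F m) (hm : 2 ≤ m) : 2 ^ (m + 2) + 5 ≤ Fintype.card F := by
  rw [hS.card_eq]
  have h1 : 2 ^ (m + 3) ≤ 2 ^ (2 * m + 1) := Nat.pow_le_pow_right (by norm_num) (by omega)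
  have h2 : 2 ^ (m + 3) = 2 ^ (m + 2) + 2 ^ (m + 2) := by ring
  have h3 : 2 ^ 4 ≤ 2 ^ (m + 2) := Nat.pow_le_pow_right (by norm_num) (by omega)
  norm_num at h3
  omega

theorem exists_quadratic_ne (hS : SzField F m) :
    ∃ x : F, x ≠ 0 ∧ x + 1 ≠ 0 ∧ x + 1 ≠ x / (x + 1) := by
  classical
  set P : F[X] := X ^ 2 + X + C 1 with hP
  have hdeg : P.natDegree ≤ 2 := by rw [hP]; compute_degree
  have hne : P ≠ 0 := fun h => by
    have := congrArg (Polynomial.eval (0 : F)) h
    simp [hP] at this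
  have h := hS.eight_le
  obtain ⟨x, -, hx⟩ := Finset.exists_mem_notMem_of_card_lt_card
    (s := insert 0 (insert (-1) P.roots.toFinset)) (t := (Finset.univ : Finset F)) (by
      have h1 := (Finset.card_insert_le (0 : F) (insert (-1) P.roots.toFinset))
      have h2 := (Finset.card_insert_le (-1 : F) P.roots.toFinset)
      have h3 := P.roots.toFinset_card_le
      have h4 := P.card_roots'
      rw [Finset.card_univ]
      omega)
  simp only [Finset.mem_insert, Multiset.mem_toFinset, mem_roots hne, not_or] at hx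
  obtain ⟨h0, h1, hroot⟩ := hx
  have hx1 : x + 1 ≠ 0 := fun e => h1 (eq_neg_of_add_eq_zero_left e)
  refine ⟨x, h0, hx1, fun e => hroot ?_⟩
  rw [eq_div_iff hx1] at e
  simp only [IsRoot, hP, eval_add, eval_pow, eval_X, eval_C]
  linear_combination e

theorem exists_self_mul_θ_ne (hS : SzField F m) (hm : 2 ≤ m) :
    ∃ x : F, x ≠ 0 ∧ x + 1 ≠ 0 ∧
      x * θ m x + 1 ≠ x / (x + 1) * θ m (x / (x + 1)) := by
  classical
  set e := 2 ^ (m + 1) with he
  set P : F[X] := (X ^ (e + 1)) ^ 2 + X ^ (e + 1) * (X + X ^ e + C 1) + (X + X ^ e + C 1) with hP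
  have he2 : 2 ≤ e := by
    calc 2 = 2 ^ 1 := rfl
      _ ≤ e := Nat.pow_le_pow_right (by norm_num) (by omega)
  have hlin : (X + X ^ e + C (1 : F)).natDegree ≤ e := by
    refine (natDegree_add_le _ _).trans (max_le ((natDegree_add_le _ _).trans (max_le ?_ ?_)) ?_)
    · rw [natDegree_X]; omega
    · rw [natDegree_X_pow]
    · rw [natDegree_C]; omega
  have hdeg : P.natDegree ≤ 2 * e + 2 := by
    rw [hP]
    refine (natDegree_add_le _ _).trans (max_le ((natDegree_add_le _ _).trans (max_le ?_ ?_)) ?_)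
    · rw [← pow_mul, natDegree_X_pow]; omega
    · refine natDegree_mul_le.trans ?_
      rw [natDegree_X_pow]
      omega
    · omega
  have hne : P ≠ 0 := fun h => by
    have := congrArg (Polynomial.eval (0 : F)) h
    simp [hP, show e ≠ 0 by omega] at this
  have hq := sz_card_ge hS hm
  have he4 : 2 * e = 2 ^ (m + 2) := by rw [he]; ring
  obtain ⟨x, -, hx⟩ := Finset.exists_mem_notMem_of_card_lt_card
    (s := insert 0 (insert (-1) P.roots.toFinset)) (t := (Finset.univ : Finset F)) (by
      have h1 := (Finset.card_insert_le (0 : F) (insert (-1) P.roots.toFinset))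
      have h2 := (Finset.card_insert_le (-1 : F) P.roots.toFinset)
      have h3 := P.roots.toFinset_card_le
      have h4 := P.card_roots'
      rw [Finset.card_univ]
      omega)
  simp only [Finset.mem_insert, Multiset.mem_toFinset, mem_roots hne, not_or] at hx
  obtain ⟨h0, h1, hroot⟩ := hx
  have hx1 : x + 1 ≠ 0 := fun e => h1 (eq_neg_of_add_eq_zero_left e)
  refine ⟨x, h0, hx1, fun heq => hroot ?_⟩
  rw [div_eq_mul_inv, θ_mul, θ_inv, θ_add hS, θ_one] at heq
  have ht1 : θ m x + 1 ≠ 0 := by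
    rw [← θ_one (F := F) (m := m), ← θ_add hS]
    exact fun h => hx1 (θ_eq_zero.1 h)
  field_simp at heq
  simp only [IsRoot, hP, eval_add, eval_mul, eval_pow, eval_X, eval_C]
  rw [show x ^ (e + 1) = x * θ m x by rw [pow_succ', he]; rfl,
    show x ^ e = θ m x from rfl]
  linear_combination heq

theorem torus_val_ne_one (hS : SzField F m) :
    ∃ μ : Fˣ, (μ : F) * θ m (μ : F) + 1 ≠ 0 := by
  obtain ⟨x, hx0, hxne⟩ := exists_θ_ne hS
  refine ⟨Units.mk0 x hx0, fun h => ?_⟩
  have hx1 : x = 1 := self_mul_θ_injective hS (by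
    have h2 := hS.two_eq_zero
    simp only [θ_one, mul_one]
    change x * θ m x + 1 = 0 at h
    linear_combination h - h2)
  exact hxne (by rw [hx1, θ_one])

/-- In a central extension of `Sz(q)`, `q ≥ 32`, the preimage of a Sylow `2`-subgroup has
commutator subgroup meeting the kernel trivially. -/
theorem suzuki_sylow_commutator {Γ : Type*} [Group Γ] (hS : SzField F m) (hm : 2 ≤ m)
    (σ : Γ →* Cfsg.Sz F m) (hsurj : Function.Surjective σ) (hc : σ.ker ≤ Subgroup.center Γ)
    {z : Γ} (hz : z ∈ ⁅(uniSub hS).comap σ, (uniSub hS).comap σ⁆) (hz1 : σ z = 1) : z = 1 := by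
  have := hS.charP
  let L := Function.surjInv hsurj
  have hL : ∀ g, σ (L g) = g := Function.surjInv_eq hsurj
  let X : F → Γ := fun a => L (uniEl hS a 0)
  let Y : F → Γ := fun b => L (uniEl hS 0 b)
  let T : Fˣ → Γ := fun μ => L (torSz hS μ)
  have hcomm1 : ∀ {w : Γ}, σ w = 1 → ∀ y, Commute w y := fun h y =>
    commute_of_mem_ker σ hc h y
  have hYadd : ∀ b b', σ (Y (b + b')) = σ (Y b * Y b') := fun b b' => by
    simp only [Y, map_mul, hL, uniEl_mul, θ_zero, zero_mul, add_zero]
  have hTY : ∀ (μ : Fˣ) b, σ (T μ * Y b * (T μ)⁻¹) = σ (Y ((μ : F) * θ m (μ : F) * b)) :=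
    fun μ b => by simp only [Y, T, map_mul, map_inv, hL, torSz_conj_uniEl, mul_zero]
  have hTX : ∀ (μ : Fˣ) a, σ (T μ * X a * (T μ)⁻¹) = σ (X ((μ : F) * a)) := fun μ a => by
    simp only [X, T, map_mul, map_inv, hL, torSz_conj_uniEl, mul_zero]
  -- the centre of the Sylow subgroup lifts to an abelian group
  have hYY : ∀ b b', Commute (Y b) (Y b') := by
    intro b b'
    rw [← commutatorElement_eq_one_iff_commute]
    have h1 : ∀ b b', σ ⁅Y b, Y b'⁆ = 1 := fun b b' => by
      rw [map_commutatorElement, commutatorElement_def]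
      simp only [Y, hL, uniEl_comm, θ_zero, zero_mul, add_zero, uniEl_zero]
    obtain ⟨x, hx, hx1, hne⟩ := exists_quadratic_ne hS
    refine pairing_eq_one (fun b b' => ⁅Y b, Y b'⁆) ?_ ?_ id ?_ hx hx1 (by simpa using hne) b b'
    · intro a a' c
      rw [commutator_congr σ hc (hYadd a a') rfl,
        commutator_mul_left ((hcomm1 (h1 a' c) _).symm)]
      exact (hcomm1 (h1 a' c) _).eq
    · intro a c c'
      rw [commutator_congr σ hc rfl (hYadd c c')]
      exact commutator_mul_right ((hcomm1 (h1 a c') _).symm)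
    · intro ν a c hν
      obtain ⟨μ, hμ⟩ := self_mul_θ_surjective hS ν
      simp only at hμ
      have hμ0 : μ ≠ 0 := fun h => hν (by rw [← hμ, h, zero_mul])
      simp only [id, ← hμ]
      have h := conj_commutator (T (Units.mk0 μ hμ0)) (Y a) (Y c)
      rw [commutator_congr σ hc (hTY (Units.mk0 μ hμ0) a) (hTY (Units.mk0 μ hμ0) c),
        ← (hcomm1 (h1 a c) _).eq, mul_inv_cancel_right] at h
      exact h.symm
  have hYcomm : ∀ (w : Γ) (b b' : F), σ w = uniEl hS 0 b → Commute w (Y b') := by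
    intro w b b' hw
    rw [← commutatorElement_eq_one_iff_commute,
      commutator_congr σ hc (x' := Y b) (y' := Y b') (hw.trans (hL _).symm) rfl,
      commutatorElement_eq_one_iff_commute]
    exact hYY b b'
  -- step 2: the whole preimage centralises it
  have hXY : ∀ a b, Commute (X a) (Y b) := by
    intro a b
    rw [← commutatorElement_eq_one_iff_commute]
    have h1 : ∀ a b, σ ⁅X a, Y b⁆ = 1 := fun a b => by
      rw [map_commutatorElement, commutatorElement_def]
      simp only [X, Y, hL, uniEl_comm, θ_zero, zero_mul, mul_zero, add_zero, uniEl_zero]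
    obtain ⟨x, hx, hx1, hne⟩ := exists_self_mul_θ_ne hS hm
    refine pairing_eq_one (fun a b => ⁅X a, Y b⁆) ?_ ?_ (fun μ => μ * θ m μ) ?_ hx hx1 hne a b
    · intro a a' c
      have hsplit : σ (X (a + a') * Y (θ m a * a')) = σ (X a * X a') := by
        simp [X, Y, hL, uniEl_mul]
      have h2 : ⁅X (a + a') * Y (θ m a * a'), Y c⁆ = ⁅X a * X a', Y c⁆ :=
        commutator_congr σ hc hsplit rfl
      have h3 : ⁅Y (θ m a * a'), Y c⁆ = 1 := commutatorElement_eq_one_iff_commute.2 (hYY _ _)
      rw [commutator_mul_left (by rw [h3]; exact Commute.one_right _), h3, one_mul,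
        commutator_mul_left ((hcomm1 (h1 a' c) _).symm)] at h2
      rw [h2]
      exact (hcomm1 (h1 a' c) _).eq
    · intro a c c'
      rw [commutator_congr σ hc rfl (hYadd c c')]
      exact commutator_mul_right ((hcomm1 (h1 a c') _).symm)
    · intro μ a c hμ
      have h := conj_commutator (T (Units.mk0 μ hμ)) (X a) (Y c)
      rw [commutator_congr σ hc (hTX (Units.mk0 μ hμ) a) (hTY (Units.mk0 μ hμ) c),
        ← (hcomm1 (h1 a c) _).eq, mul_inv_cancel_right] at h
      exact h.symm
  have hXcomm : ∀ (w : Γ) (a b : F), σ w = uniEl hS 0 b → Commute (X a) w := by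
    intro w a b hw
    rw [← commutatorElement_eq_one_iff_commute,
      commutator_congr σ hc (x' := X a) (y' := Y b) rfl (hw.trans (hL _).symm),
      commutatorElement_eq_one_iff_commute]
    exact hXY a b
  -- the splitting of the lifted centre
  obtain ⟨μ₀, hμ₀⟩ := torus_val_ne_one hS
  set l₀ : F := (μ₀ : F) * θ m (μ₀ : F) + 1 with hl₀
  let s : F → Γ := fun b => ⁅T μ₀, Y (b / l₀)⁆
  have hσs : ∀ b, σ (s b) = uniEl hS 0 b := by
    intro b
    simp only [s, commutatorElement_def, map_mul, map_inv, T, Y, hL, torSz_conj_uniEl,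
      uniEl_inv, uniEl_mul, mul_zero, θ_zero, zero_mul, add_zero]
    rw [uniEl_eq_iff]
    refine ⟨rfl, ?_⟩
    rw [← add_one_mul, mul_div_cancel₀ b hμ₀]
  have hsadd : ∀ b b', s (b + b') = s b * s b' := by
    intro b b'
    change ⁅T μ₀, Y ((b + b') / l₀)⁆ = _
    rw [commutator_congr σ hc rfl (show σ (Y ((b + b') / l₀)) = σ (Y (b / l₀) * Y (b' / l₀)) by
      rw [← hYadd, add_div])]
    exact commutator_mul_right ((hYcomm _ b' _ (hσs b')).symm)
  have hss : ∀ b b', Commute (s b) (s b') := by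
    intro b b'
    rw [← commutatorElement_eq_one_iff_commute, commutator_congr σ hc
      (x' := Y b) (y' := Y b') ((hσs b).trans (hL _).symm) ((hσs b').trans (hL _).symm),
      commutatorElement_eq_one_iff_commute]
    exact hYY b b'
  have hTs : ∀ (μ : Fˣ) b, T μ * s b * (T μ)⁻¹ = s ((μ : F) * θ m (μ : F) * b) := by
    intro μ b
    simp only [s, conj_commutator]
    refine commutator_congr σ hc ?_ ?_
    · simp only [T, map_mul, map_inv, hL]
      rw [← map_mul, mul_comm μ μ₀, map_mul, mul_inv_cancel_right]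
    · rw [hTY, mul_div_assoc]
  let δ : F → F → Γ := fun a a' => ⁅X a, X a'⁆ * (s (θ m a * a' + θ m a' * a))⁻¹
  have hσδ : ∀ a a', σ (δ a a') = 1 := by
    intro a a'
    simp only [δ, map_mul, map_inv, hσs, map_commutatorElement, commutatorElement_def, X, hL,
      uniEl_comm, mul_inv_cancel]
  have hXX : ∀ a a', ⁅X a, X a'⁆ = δ a a' * s (θ m a * a' + θ m a' * a) := fun a a' => by
    simp [δ]
  have hmain : ∀ a a', δ a a' = 1 := by
    intro a a'
    obtain ⟨x, hx, hx1, hne⟩ := exists_quadratic_ne hS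
    refine pairing_eq_one δ ?_ ?_ id ?_ hx hx1 (by simpa using hne) a a'
    · intro a a' c
      have hsplit : σ (X (a + a') * Y (θ m a * a')) = σ (X a * X a') := by
        simp [X, Y, hL, uniEl_mul]
      have h2 : ⁅X (a + a') * Y (θ m a * a'), X c⁆ = ⁅X a * X a', X c⁆ :=
        commutator_congr σ hc hsplit rfl
      have h3 : ⁅Y (θ m a * a'), X c⁆ = 1 := commutatorElement_eq_one_iff_commute.2 (hXY _ _).symm
      have h4 : σ ⁅X a', X c⁆ = uniEl hS 0 (θ m a' * c + θ m c * a') := by
        rw [hXX, map_mul, hσδ, one_mul, hσs]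
      rw [commutator_mul_left (by rw [h3]; exact Commute.one_right _), h3, one_mul,
        commutator_mul_left (hXcomm _ _ _ h4), hXX (a + a'), hXX a', hXX a] at h2
      have h5 : θ m (a + a') * c + θ m c * (a + a') =
          (θ m a' * c + θ m c * a') + (θ m a * c + θ m c * a) := by rw [θ_add hS]; ring
      rw [h5, hsadd, mul_assoc (δ a' c), ← mul_assoc (s _) (δ a c),
        ← (hcomm1 (hσδ a c) (s (θ m a' * c + θ m c * a'))).eq, mul_assoc (δ a c),
        ← mul_assoc (δ a' c), (hcomm1 (hσδ a' c) (δ a c)).eq] at h2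
      exact mul_right_cancel h2
    · intro c a a'
      have hsplit : σ (X (a + a') * Y (θ m a * a')) = σ (X a * X a') := by
        simp [X, Y, hL, uniEl_mul]
      have h2 : ⁅X c, X (a + a') * Y (θ m a * a')⁆ = ⁅X c, X a * X a'⁆ :=
        commutator_congr σ hc rfl hsplit
      have h3 : ⁅X c, Y (θ m a * a')⁆ = 1 := commutatorElement_eq_one_iff_commute.2 (hXY _ _)
      have h4 : σ ⁅X c, X a'⁆ = uniEl hS 0 (θ m c * a' + θ m a' * c) := by
        rw [hXX, map_mul, hσδ, one_mul, hσs]
      rw [commutator_mul_right (by rw [h3]; exact Commute.one_right _), h3, mul_one,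
        commutator_mul_right (hXcomm _ _ _ h4), hXX c (a + a'), hXX c a', hXX c a] at h2
      have h5 : θ m c * (a + a') + θ m (a + a') * c =
          (θ m c * a + θ m a * c) + (θ m c * a' + θ m a' * c) := by rw [θ_add hS]; ring
      rw [h5, hsadd, mul_assoc (δ c a), ← mul_assoc (s _) (δ c a'),
        ← (hcomm1 (hσδ c a') (s (θ m c * a + θ m a * c))).eq, mul_assoc (δ c a'),
        ← mul_assoc (δ c a)] at h2
      exact mul_right_cancel h2
    · intro μ a c hμ
      set u := Units.mk0 μ hμ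
      change δ (μ * a) (μ * c) = δ a c
      have h := conj_commutator (T u) (X a) (X c)
      rw [commutator_congr σ hc (hTX u a) (hTX u c), hXX, hXX,
        ← mul_assoc, ← (hcomm1 (hσδ a c) (T u)).eq, mul_assoc (δ a c), mul_assoc (δ a c),
        hTs] at h
      have harg : θ m (μ * a) * (μ * c) + θ m (μ * c) * (μ * a) =
          μ * θ m μ * (θ m a * c + θ m c * a) := by rw [θ_mul, θ_mul]; ring
      simp only [u, Units.val_mk0] at h
      rw [harg] at h
      exact (mul_right_cancel h).symm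
  let S : Subgroup Γ :=
    { carrier := Set.range s
      one_mem' := ⟨0, by
        have h := hsadd 0 0
        simpa using h⟩
      mul_mem' := by rintro _ _ ⟨b, rfl⟩ ⟨b', rfl⟩; exact ⟨b + b', hsadd b b'⟩
      inv_mem' := by
        rintro _ ⟨b, rfl⟩
        have h0 : s 0 = 1 := by simpa using hsadd 0 0
        exact ⟨-b, (inv_eq_of_mul_eq_one_right (by rw [← hsadd, add_neg_cancel, h0])).symm⟩ }
  have hle : ⁅(uniSub hS).comap σ, (uniSub hS).comap σ⁆ ≤ S := by
    rw [Subgroup.commutator_le]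
    intro g ⟨a, b, hg⟩ g' ⟨a', b', hg'⟩
    have e : ∀ a b, σ (X a * Y b) = uniEl hS a b := fun a b => by
      simp [X, Y, hL, uniEl_mul]
    rw [commutator_congr σ hc (hg.trans (e a b).symm) (hg'.trans (e a' b').symm)]
    have hb : ∀ c, Commute (Y b) (Y c) := hYY b
    have h1 : ⁅Y b, X a' * Y b'⁆ = 1 := commutatorElement_eq_one_iff_commute.2
      ((hXY a' b).symm.mul_right (hb b'))
    have h2 : ⁅X a, Y b'⁆ = 1 := commutatorElement_eq_one_iff_commute.2 (hXY a b')
    rw [commutator_mul_left (by rw [h1]; exact Commute.one_right _), h1, one_mul,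
      commutator_mul_right (by rw [h2]; exact Commute.one_right _), h2, mul_one, hXX, hmain,
      one_mul]
    exact ⟨_, rfl⟩
  obtain ⟨b, rfl⟩ := hle hz
  rw [hσs, ← uniEl_zero hS, uniEl_eq_iff] at hz1
  rw [hz1.2]
  simpa using hsadd 0 0

/-- `Sz(q)` has trivial Schur multiplier for `q ≥ 32`. -/
theorem hasCyclicSchurMultiplier_sz (hS : SzField F m) (hm : 2 ≤ m) :
    Cfsg.HasCyclicSchurMultiplier (Cfsg.Sz F m) 1 := by
  refine CfsgLib.Schur.hasCyclicSchurMultiplier_one _ fun p hp _ Γ _ _ σ hσ hexp => ?_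
  haveI := Fact.mk hp
  by_cases hp2 : p = 2
  · subst hp2
    rw [eq_bot_iff]
    intro z hz
    rw [Subgroup.mem_bot]
    refine suzuki_sylow_commutator hS hm σ hσ.1 hσ.2.1 ?_ hz
    refine CfsgLib.Schur.mem_commutator_of_index_coprime _ (hσ.2.1 hz) (hσ.2.2 hz) ?_
    refine Nat.Coprime.coprime_dvd_left (orderOf_dvd_of_pow_eq_one (hexp z hz)) ?_
    rw [Subgroup.index_comap_of_surjective _ hσ.1]
    exact Nat.prime_two.coprime_iff_not_dvd.2 (odd_index_uniSub hS)
  · obtain ⟨P⟩ : Nonempty (Sylow p (Cfsg.Sz F m)) := inferInstance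
    haveI := isCyclic_sylow hS hp2 P
    obtain ⟨g, hg⟩ := IsCyclic.exists_generator (α := P)
    refine CfsgLib.Schur.ker_eq_bot_of_index_zpowers hp (g : Cfsg.Sz F m) ?_ σ hσ hexp
    have hzp : Subgroup.zpowers (g : Cfsg.Sz F m) = (P : Subgroup (Cfsg.Sz F m)) := by
      refine le_antisymm (Subgroup.zpowers_le.2 g.2) fun x hx => ?_
      obtain ⟨k, hk⟩ := hg ⟨x, hx⟩
      exact ⟨k, congrArg Subtype.val hk⟩
    rw [hzp]
    exact P.not_dvd_index

end CfsgLib.SchurBound
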