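import Cfsg.Agent.SchurTheory.Basic

/-!
# Tools for bounding the kernels of stem extensions

* `hasSchurMultiplier_congr`: the predicate is invariant under isomorphism.
* commutator identities modulo a central kernel.
* `pairing_eq_one`: a bi-additive pairing on a field that is invariant under
  `(a, b) ↦ (μ a, Λ μ b)` vanishes if `Λ x + 1 ≠ Λ (x/(x+1))` for some `x`.
-/

set_option autoImplicit false

namespace CfsgLib.SchurBound

open scoped commutatorElement

universe u v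

theorem hasSchurMultiplier_congr {G H : Type u} [Group G] [Group H] (e : G ≃* H) {A : Type v}
    [CommGroup A] (h : Cfsg.HasSchurMultiplier G A) : Cfsg.HasSchurMultiplier H A := by
  have key : ∀ {G H : Type u} [Group G] [Group H] (e : G ≃* H) (Γ : Type u) [Group Γ]
      (σ : Γ →* G), (e.toMonoidHom.comp σ).ker = σ.ker := by
    intro G H _ _ e Γ _ σ
    ext x
    simp
  have stem : ∀ {G H : Type u} [Group G] [Group H] (e : G ≃* H) (Γ : Type u) [Group Γ]
      (σ : Γ →* G), Cfsg.IsStemExtension σ → Cfsg.IsStemExtension (e.toMonoidHom.comp σ) := by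
    intro G H _ _ e Γ _ σ hσ
    refine ⟨e.surjective.comp hσ.1, ?_, ?_⟩ <;> rw [key e Γ σ]
    · exact hσ.2.1
    · exact hσ.2.2
  obtain ⟨⟨Γ, i1, i2, σ, hσ, ⟨f⟩⟩, huniv⟩ := h
  refine ⟨⟨Γ, i1, i2, e.toMonoidHom.comp σ, stem e Γ σ hσ,
    ⟨(MulEquiv.subgroupCongr (key e Γ σ)).trans f⟩⟩, ?_⟩
  intro Δ _ _ τ hτ
  obtain ⟨π, hπ⟩ := huniv Δ (e.symm.toMonoidHom.comp τ) (stem e.symm Δ τ hτ)
  exact ⟨(MulEquiv.subgroupCongr (key e.symm Δ τ)).toMonoidHom.comp π,
    (MulEquiv.subgroupCongr (key e.symm Δ τ)).surjective.comp hπ⟩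

section Central

variable {Γ G : Type*} [Group Γ] [Group G]

/-- A commutator only depends on the images modulo a central kernel. -/
theorem commutator_congr (σ : Γ →* G) (hc : σ.ker ≤ Subgroup.center Γ) {x x' y y' : Γ}
    (hx : σ x = σ x') (hy : σ y = σ y') : ⁅x, y⁆ = ⁅x', y'⁆ := by
  have h1 : x'⁻¹ * x ∈ Subgroup.center Γ :=
    hc (by rw [MonoidHom.mem_ker, map_mul, map_inv, hx, inv_mul_cancel])
  have h2 : y'⁻¹ * y ∈ Subgroup.center Γ :=
    hc (by rw [MonoidHom.mem_ker, map_mul, map_inv, hy, inv_mul_cancel])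
  rw [← CfsgLib.SchurTheory.commutatorElement_mul_mem_center (x := x') (y := y') h1 h2,
    mul_inv_cancel_left, mul_inv_cancel_left]

theorem commute_of_mem_ker (σ : Γ →* G) (hc : σ.ker ≤ Subgroup.center Γ) {z : Γ} (hz : σ z = 1)
    (y : Γ) : Commute z y :=
  ((Subgroup.mem_center_iff.1 (hc hz)) y).symm

theorem commutator_mul_left {x y z : Γ} (h : Commute x ⁅y, z⁆) :
    ⁅x * y, z⁆ = ⁅y, z⁆ * ⁅x, z⁆ := by
  have e : ⁅x * y, z⁆ = x * ⁅y, z⁆ * x⁻¹ * ⁅x, z⁆ := by
    simp only [commutatorElement_def]; group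
  rw [e, h.eq, mul_inv_cancel_right]

theorem commutator_mul_right {x y z : Γ} (h : Commute y ⁅x, z⁆) :
    ⁅x, y * z⁆ = ⁅x, y⁆ * ⁅x, z⁆ := by
  have e : ⁅x, y * z⁆ = ⁅x, y⁆ * (y * ⁅x, z⁆ * y⁻¹) := by
    simp only [commutatorElement_def]; group
  rw [e, h.eq, mul_inv_cancel_right]

theorem conj_commutator (t x y : Γ) :
    t * ⁅x, y⁆ * t⁻¹ = ⁅t * x * t⁻¹, t * y * t⁻¹⁆ := by
  simp only [commutatorElement_def]; group

end Central

/-- A bi-additive pairing invariant under `(a, b) ↦ (μ a, Λ μ b)` is trivial if for some `x` one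
has `Λ x + 1 ≠ Λ (x / (x + 1))`. -/
theorem pairing_eq_one {F Γ : Type*} [Field F] [Group Γ] (γ : F → F → Γ)
    (hl : ∀ a a' b, γ (a + a') b = γ a b * γ a' b) (hr : ∀ a b b', γ a (b + b') = γ a b * γ a b')
    (Λ : F → F) (hinv : ∀ μ a b, μ ≠ 0 → γ (μ * a) (Λ μ * b) = γ a b)
    {x : F} (hx : x ≠ 0) (hx1 : x + 1 ≠ 0) (hne : Λ x + 1 ≠ Λ (x / (x + 1))) (a b : F) :
    γ a b = 1 := by
  set y := x / (x + 1) with hy
  have hy0 : y ≠ 0 := div_ne_zero hx hx1
  have key : ∀ a b, γ a ((Λ x + 1 - Λ y) * b) = 1 := by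
    intro a b
    have e1 : γ a (Λ x * b) = γ (a / x) b := by
      have := hinv x (a / x) b hx
      rwa [mul_div_cancel₀ a hx] at this
    have e2 : γ a (Λ y * b) = γ (a / y) b := by
      have := hinv y (a / y) b hy0
      rwa [mul_div_cancel₀ a hy0] at this
    have e3 : γ a ((Λ x + 1) * b) = γ a (Λ y * b) := by
      rw [add_mul, one_mul, hr, e1, e2, ← hl]
      congr 1
      rw [hy]
      field_simp
      ring
    have e4 := hr a ((Λ x + 1 - Λ y) * b) (Λ y * b)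
    rw [← add_mul, sub_add_cancel, e3] at e4
    simpa using e4
  have := key a (b / (Λ x + 1 - Λ y))
  rwa [mul_div_cancel₀ b (sub_ne_zero.2 hne)] at this

end CfsgLib.SchurBound
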